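import Groth.Agent.SchBasics.Closure
import Mathlib.AlgebraicGeometry.Normalization

/-!
Generic points of irreducible components: maximal points, and lifting along dominant quasi-compact maps.
-/

set_option autoImplicit false
universe u

open CategoryTheory AlgebraicGeometry TopologicalSpace

namespace Groth.Agent.Norm57

variable {X Y : Scheme.{u}}

/-- A point is maximal when it has no nontrivial generization. -/
def IsMax' (x : X) : Prop := ∀ w : X, w ⤳ x → w = x

theorem isMax'_iff {x : X} : IsMax' x ↔ closure ({x} : Set X) ∈ irreducibleComponents X := by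
  constructor
  · intro h
    refine ⟨isIrreducible_singleton.closure, fun t ht hxt => ?_⟩
    obtain ⟨w, hw⟩ := QuasiSober.sober ht.closure isClosed_closure
    have hwx : w ⤳ x := specializes_iff_mem_closure.mpr
      (hw.symm ▸ subset_closure (hxt (subset_closure rfl)))
    rw [← h w hwx, hw]
    exact subset_closure
  · intro h w hw
    have h2 : closure ({w} : Set X) ⊆ closure {x} :=
      h.2 isIrreducible_singleton.closure (specializes_iff_closure_subset.mp hw)
    exact (hw.antisymm (specializes_iff_closure_subset.mpr h2)).eq

theorem exists_isMax'_specializes (x : X) : ∃ y : X, IsMax' y ∧ y ⤳ x := by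
  obtain ⟨Z, hZ, hx⟩ :=
    exists_mem_irreducibleComponents_subset_of_isIrreducible _ (isIrreducible_singleton (x := x))
  obtain ⟨y, hy⟩ := QuasiSober.sober hZ.1 (isClosed_of_mem_irreducibleComponents Z hZ)
  exact ⟨y, isMax'_iff.mpr (hy.symm ▸ hZ), specializes_iff_mem_closure.mpr (hy.symm ▸ hx rfl)⟩

/-- Every maximal point of the target of a quasi-compact dominant morphism is the image of a maximal
point of the source. -/
theorem exists_isMax'_preimage (f : X ⟶ Y) [QuasiCompact f] [IsDominant f] {y : Y} (hy : IsMax' y) :
    ∃ x : X, IsMax' x ∧ f x = y := by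
  obtain ⟨z, hz⟩ := SchBasics.exists_specializes_of_mem_closure_range f (y := y) (f.denseRange y)
  obtain ⟨x, hx, hxz⟩ := exists_isMax'_specializes z
  exact ⟨x, hx, hy _ ((hxz.map f.continuous).trans hz)⟩

end Groth.Agent.Norm57
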