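import Groth.Agent.VarNorm.Props
import Groth.Agent.Norm57.GenPoints

/-! Universal property of the normalization of an integral scheme. -/

set_option autoImplicit false
set_option backward.isDefEq.respectTransparency.types false
set_option linter.style.haveILetI false
universe u
open CategoryTheory AlgebraicGeometry TopologicalSpace Opposite Polynomial

namespace Groth.Agent.Norm57

variable {T : Scheme.{u}}

theorem sext {W : T.Opens} (y y' : Γ(T, W))
    (h : ∀ (z : T) (hz : z ∈ W), T.presheaf.germ W z hz y = T.presheaf.germ W z hz y') : y = y' :=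
  TopCat.Presheaf.section_ext T.sheaf W y y' h

/-- On a normal scheme a quotient by a stalkwise nonzero section that satisfies a monic relation is
a section. -/
theorem existsUnique_section_mul_eq (hT : Pi1.IsNormalScheme T) {R : Type u} [CommRing R]
    (φ : R →+* Γ(T, ⊤)) (a b : R) (P : R[X]) (hP : P.Monic) (h : (P.scaleRoots b).eval a = 0)
    (hb : ∀ z : T, T.presheaf.germ ⊤ z trivial (φ b) ≠ 0) : ∃! y : Γ(T, ⊤), φ b * y = φ a := by
  have huniq : ∀ (W : T.Opens) (y y' : Γ(T, W)),
      T.presheaf.map (homOfLE (le_top : W ≤ ⊤)).op (φ b) * y =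
        T.presheaf.map (homOfLE (le_top : W ≤ ⊤)).op (φ b) * y' → y = y' := fun W y y' e => by
    refine sext y y' fun z hz => ?_
    have e' := congrArg (T.presheaf.germ W z hz).hom e
    rw [map_mul, map_mul, T.presheaf.germ_res_apply] at e'
    haveI := (hT z).1
    exact mul_left_cancel₀ (hb z) e'
  have hloc : ∀ z : T, ∃ (W : T.Opens) (_ : z ∈ W) (y : Γ(T, W)),
      T.presheaf.map (homOfLE (le_top : W ≤ ⊤)).op (φ b) * y =
        T.presheaf.map (homOfLE (le_top : W ≤ ⊤)).op (φ a) := fun z => by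
    haveI := (hT z).1
    haveI := (hT z).2
    let γ : R →+* T.presheaf.stalk z := (T.presheaf.germ ⊤ z trivial).hom.comp φ
    obtain ⟨c, hc⟩ := (IsIntegrallyClosed.isIntegral_iff (K := FractionRing (T.presheaf.stalk z))
      (R := T.presheaf.stalk z) (x := algebraMap _ _ (γ a) / algebraMap _ _ (γ b))).mp (by
      refine ⟨P.map γ, hP.map _, ?_⟩
      rw [eval₂_map]
      have hb0 : algebraMap (T.presheaf.stalk z) (FractionRing (T.presheaf.stalk z)) (γ b) ≠ 0 :=
        fun e => hb z ((IsFractionRing.injective _ _) (e.trans (map_zero _).symm))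
      have := scaleRoots_eval₂_mul (p := P)
        ((algebraMap (T.presheaf.stalk z) (FractionRing (T.presheaf.stalk z))).comp γ)
        (algebraMap _ _ (γ a) / algebraMap _ _ (γ b)) b
      rw [RingHom.comp_apply, mul_div_cancel₀ _ hb0] at this
      rw [show algebraMap (T.presheaf.stalk z) (FractionRing (T.presheaf.stalk z)) (γ a) =
          ((algebraMap (T.presheaf.stalk z) (FractionRing (T.presheaf.stalk z))).comp γ) a from rfl,
        eval₂_at_apply, h, map_zero] at this
      exact (mul_eq_zero.mp this.symm).resolve_left (pow_ne_zero _ hb0))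
    obtain ⟨W₀, hzW₀, y₀, hy₀⟩ := T.presheaf.exists_germ_eq c
    have e : γ b * c = γ a := by
      apply IsFractionRing.injective (T.presheaf.stalk z) (FractionRing (T.presheaf.stalk z))
      have hb0 : algebraMap (T.presheaf.stalk z) (FractionRing (T.presheaf.stalk z)) (γ b) ≠ 0 :=
        fun e => hb z ((IsFractionRing.injective _ _) (e.trans (map_zero _).symm))
      rw [map_mul, hc, mul_div_cancel₀ _ hb0]
    obtain ⟨W, hzW, i₁, i₂, hW⟩ := T.presheaf.germ_eq z hzW₀ (Opens.mem_top z)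
      (T.presheaf.map (homOfLE (le_top : W₀ ≤ ⊤)).op (φ b) * y₀) (φ a) (by
        rw [map_mul, T.presheaf.germ_res_apply, hy₀]; exact e)
    refine ⟨W, hzW, T.presheaf.map i₁.op y₀, ?_⟩
    refine Eq.trans ?_ hW
    rw [map_mul, ← CommRingCat.comp_apply, ← T.presheaf.map_comp]
    rfl
  choose W hzW y hy using hloc
  obtain ⟨(Y : Γ(T, ⊤)), hY, -⟩ := T.sheaf.existsUnique_gluing' W ⊤ (fun z => homOfLE le_top)
    (fun z _ => Opens.mem_iSup.mpr ⟨z, hzW z⟩) y (fun z w => by
      refine huniq _ _ _ ?_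
      have e1 := congrArg (T.presheaf.map (homOfLE (inf_le_left : W z ⊓ W w ≤ W z)).op).hom (hy z)
      have e2 := congrArg (T.presheaf.map (homOfLE (inf_le_right : W z ⊓ W w ≤ W w)).op).hom (hy w)
      rw [map_mul] at e1 e2
      simp only [← CommRingCat.comp_apply, ← T.presheaf.map_comp] at e1 e2
      exact e1.trans e2.symm)
  refine ⟨Y, sext _ _ fun z hz => ?_, fun Y' hY' => ?_⟩
  · have e1 := congrArg (T.presheaf.germ (W z) z (hzW z)).hom (hy z)
    rw [map_mul, T.presheaf.germ_res_apply, T.presheaf.germ_res_apply] at e1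
    have e2 : T.presheaf.germ (W z) z (hzW z) (y z) = T.presheaf.germ ⊤ z trivial Y := by
      rw [← hY z]; exact T.presheaf.germ_res_apply _ _ _ _
    refine Eq.trans ?_ e1
    change T.presheaf.germ ⊤ z hz (φ b * Y) = _
    rw [map_mul, e2]
  · refine sext _ _ fun z hz => ?_
    haveI := (hT z).1
    have e1 := congrArg (T.presheaf.germ ⊤ z hz).hom hY'
    have e2 := congrArg (T.presheaf.germ (W z) z (hzW z)).hom (hy z)
    rw [map_mul, T.presheaf.germ_res_apply, T.presheaf.germ_res_apply] at e2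
    rw [map_mul] at e1
    have e3 : T.presheaf.germ (W z) z (hzW z) (y z) = T.presheaf.germ ⊤ z trivial Y := by
      rw [← hY z]; exact T.presheaf.germ_res_apply _ _ _ _
    refine mul_left_cancel₀ (hb z) (e1.trans (e2.symm.trans ?_))
    rw [e3]

theorem isMax'_of_openImmersion {U X : Scheme.{u}} (i : U ⟶ X) [IsOpenImmersion i] {w : U}
    (hw : IsMax' w) : IsMax' (i w) := fun v hv => by
  obtain ⟨v', rfl⟩ := hv.mem_open i.isOpenEmbedding.isOpen_range ⟨w, rfl⟩
  exact congrArg i (hw v' (i.isEmbedding.isInducing.specializes_iff.mp hv))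

theorem isNormalScheme_of_openImmersion {U X : Scheme.{u}} (i : U ⟶ X) [IsOpenImmersion i]
    (hX : Pi1.IsNormalScheme X) : Pi1.IsNormalScheme U := fun z => by
  haveI h1 : IsIso (i.stalkMap z) := (IsOpenImmersion.iff_isIso_stalkMap.mp inferInstance).2 z
  let e := (asIso (i.stalkMap z)).commRingCatIsoToRingEquiv
  haveI := (hX (i z)).1
  haveI := (hX (i z)).2
  exact ⟨e.symm.toMulEquiv.isDomain _, IsIntegrallyClosed.of_equiv e⟩

section

variable {X : Scheme.{u}} [IsIntegral X]

/-- Lifts along an affine chart of the normalization are unique and exist. -/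
theorem existsUnique_lift_chart (hT : Pi1.IsNormalScheme T) {U : X.Opens} (hU : IsAffineOpen U)
    [Nonempty U] (k : T ⟶ Spec Γ(X, U))
    (hk : ∀ w : T, IsMax' w → hU.fromSpec (k w) = genericPoint X) :
    ∃! h : T ⟶ Spec (.of (integralClosure Γ(X, U) X.functionField)),
      h ≫ Spec.map (CommRingCat.ofHom
        (algebraMap Γ(X, U) (integralClosure Γ(X, U) X.functionField))) = k := by
  let A := Γ(X, U)
  let C := integralClosure A X.functionField
  let φ : A →+* Γ(T, ⊤) := ((Scheme.ΓSpecIso A).inv ≫ k.appTop).hom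
  haveI : IsFractionRing A X.functionField := functionField_isFractionRing_of_isAffineOpen X U hU
  have hb : ∀ b : A, b ≠ 0 → ∀ z : T, T.presheaf.germ ⊤ z trivial (φ b) ≠ 0 := by
    intro b hb0 z hz
    obtain ⟨w, hw, hwz⟩ := exists_isMax'_specializes z
    have h1 : w ∈ T.basicOpen (φ b) := by
      have hk' : k w = genericPoint (Spec A) := by
        refine hU.fromSpec.isOpenEmbedding.injective ?_
        rw [hk w hw, genericPoint_eq_of_isOpenImmersion]
      change w ∈ T.basicOpen (k.appTop ((Scheme.ΓSpecIso A).inv b))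
      rw [← Scheme.preimage_basicOpen_top]
      change k w ∈ (Spec A).basicOpen ((Scheme.ΓSpecIso A).inv b)
      rw [basicOpen_eq_of_affine, hk', genericPoint_eq_bot_of_affine]
      exact fun h' => hb0 (by simpa using h')
    have h2 := congrArg (T.presheaf.stalkSpecializes hwz).hom hz
    rw [map_zero, TopCat.Presheaf.germ_stalkSpecializes_apply] at h2
    rw [T.mem_basicOpen_top, h2] at h1
    exact h1.ne_zero rfl
  -- existence and uniqueness of the extension of `φ`
  have key : ∀ c : C, ∃ b a : A, b ≠ 0 ∧ algebraMap A C b * c = algebraMap A C a ∧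
      ∃! y, φ b * y = φ a := fun c => by
    obtain ⟨a, b, hb0, hab⟩ := IsFractionRing.div_surjective (A := A) c.1
    have hb1 : algebraMap A X.functionField b ≠ 0 :=
      IsFractionRing.to_map_ne_zero_of_mem_nonZeroDivisors hb0
    refine ⟨b, a, nonZeroDivisors.ne_zero hb0, Subtype.ext ?_, ?_⟩
    · change algebraMap A X.functionField b * c.1 = algebraMap A X.functionField a
      rw [← hab, mul_div_cancel₀ _ hb1]
    · obtain ⟨P, hP, hP0⟩ := c.2
      refine existsUnique_section_mul_eq hT φ a b P hP ?_ (hb b (nonZeroDivisors.ne_zero hb0))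
      apply IsFractionRing.injective A X.functionField
      rw [map_zero, ← eval₂_at_apply]
      have := scaleRoots_eval₂_mul (p := P) (algebraMap A X.functionField) c.1 b
      rw [hP0, mul_zero, ← hab, mul_div_cancel₀ _ hb1] at this
      exact this
  choose bc ac hbc hc y hy hyu using key
  have hφc : ∀ (b : A), b ≠ 0 → ∀ u v : Γ(T, ⊤), φ b * u = φ b * v → u = v := fun b hb0 u v e => by
    refine sext _ _ fun z hz => ?_
    haveI := (hT z).1
    have := congrArg (T.presheaf.germ ⊤ z hz).hom e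
    rw [map_mul, map_mul] at this
    exact mul_left_cancel₀ (hb b hb0 z) this
  have halg : Function.Injective (algebraMap A C) := fun a b e =>
    IsFractionRing.injective A X.functionField (congrArg Subtype.val e)
  have hval : ∀ (c : C) (b a : A), b ≠ 0 → algebraMap A C b * c = algebraMap A C a →
      φ b * y c = φ a := fun c b a hb0 e => by
    refine hφc (bc c) (hbc c) _ _ ?_
    rw [mul_left_comm, hy c, ← map_mul, ← map_mul]
    refine congrArg φ (halg ?_)
    rw [map_mul, map_mul, ← hc c, ← e]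
    ring
  let ψ : C →+* Γ(T, ⊤) :=
    { toFun := y
      map_one' := hφc _ (one_ne_zero) _ _ (by
        rw [hval 1 1 1 one_ne_zero (by simp), map_one, mul_one])
      map_zero' := hφc _ (one_ne_zero) _ _ (by
        rw [hval 0 1 0 one_ne_zero (by simp), map_zero, mul_zero])
      map_mul' := fun c d => hφc (bc c * bc d) (mul_ne_zero (hbc c) (hbc d)) _ _ (by
        rw [hval (c * d) (bc c * bc d) (ac c * ac d) (mul_ne_zero (hbc c) (hbc d))
          (by rw [map_mul, map_mul, mul_mul_mul_comm, hc c, hc d]),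
          map_mul, map_mul, mul_mul_mul_comm, hy c, hy d])
      map_add' := fun c d => hφc (bc c * bc d) (mul_ne_zero (hbc c) (hbc d)) _ _ (by
        rw [hval (c + d) (bc c * bc d) (ac c * bc d + ac d * bc c) (mul_ne_zero (hbc c) (hbc d))
          (by rw [map_mul, map_add, map_mul, map_mul, ← hc c, ← hc d]; ring),
          map_add, map_mul, map_mul, map_mul, ← hy c, ← hy d]; ring) }
  have hψ : ∀ a : A, ψ (algebraMap A C a) = φ a := fun a => hφc _ one_ne_zero _ _ (by
    rw [show φ 1 * ψ (algebraMap A C a) = φ a from hval (algebraMap A C a) 1 a one_ne_zero (by simp),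
      map_one, one_mul])
  have hkA : T.toSpecΓ ≫ Spec.map (CommRingCat.ofHom φ) = k := by
    refine ext_of_isAffine ?_
    rw [← cancel_epi (Scheme.ΓSpecIso A).inv, Scheme.Hom.comp_appTop,
      ← Scheme.ΓSpecIso_inv_naturality_assoc, Scheme.toSpecΓ_appTop, Iso.inv_hom_id,
      Category.comp_id]
    rfl
  refine ⟨T.toSpecΓ ≫ Spec.map (CommRingCat.ofHom ψ), ?_, fun h hh => ?_⟩
  · dsimp only
    rw [Category.assoc, ← Spec.map_comp, ← CommRingCat.ofHom_comp,
      show ψ.comp (algebraMap A C) = φ from RingHom.ext hψ, hkA]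
  · refine ext_of_isAffine ?_
    rw [← cancel_epi (Scheme.ΓSpecIso (CommRingCat.of C)).inv, Scheme.Hom.comp_appTop,
      ← Scheme.ΓSpecIso_inv_naturality_assoc, Scheme.toSpecΓ_appTop, Iso.inv_hom_id,
      Category.comp_id]
    ext c
    refine hyu c _ ?_
    have e : ∀ a : A, h.appTop ((Scheme.ΓSpecIso (CommRingCat.of C)).inv (algebraMap A C a)) = φ a :=
      fun a => by
        have := congr(((Scheme.ΓSpecIso A).inv ≫ ($hh).appTop).hom a)
        rw [Scheme.Hom.comp_appTop, ← Scheme.ΓSpecIso_inv_naturality_assoc] at this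
        exact this
    change φ (bc c) * h.appTop ((Scheme.ΓSpecIso (CommRingCat.of C)).inv c) = φ (ac c)
    rw [← e, ← e, ← map_mul, ← map_mul, hc c]

variable [QuasiCompact (X.fromSpecStalk (genericPoint X))]
  [QuasiSeparated (X.fromSpecStalk (genericPoint X))]

theorem existsUnique_lift_local (hT : Pi1.IsNormalScheme T) (k : T ⟶ X)
    (hk : ∀ w : T, IsMax' w → k w = genericPoint X) {U : X.Opens} (hU : IsAffineOpen U)
    [Nonempty U] (hkU : Set.range k ⊆ U) :
    ∃! h : T ⟶ Curv2.normalization X, h ≫ Curv2.normalizationι X = k := by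
  obtain ⟨g, hg, hrange, hcomp⟩ := VarNorm.exists_chart X U hU
  have hr : Set.range k ⊆ Set.range hU.fromSpec := by rwa [hU.range_fromSpec]
  let kA := IsOpenImmersion.lift hU.fromSpec k hr
  have hkA : kA ≫ hU.fromSpec = k := IsOpenImmersion.lift_fac _ _ _
  obtain ⟨h, hh, huniq⟩ := existsUnique_lift_chart hT hU kA (fun w hw => by
    rw [← Scheme.Hom.comp_apply, hkA, hk w hw])
  refine ⟨h ≫ g, by dsimp only; rw [Category.assoc, hcomp, reassoc_of% hh, hkA], fun h' hh' => ?_⟩
  dsimp only at hh'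
  have hr' : Set.range h' ⊆ Set.range g := by
    rw [← g.coe_opensRange, hrange]
    rintro _ ⟨t, rfl⟩
    change Curv2.normalizationι X (h' t) ∈ U
    rw [← Scheme.Hom.comp_apply, hh']
    exact hkU ⟨t, rfl⟩
  rw [← IsOpenImmersion.lift_fac g h' hr', huniq (IsOpenImmersion.lift g h' hr') ?_]
  dsimp only
  rw [← cancel_mono hU.fromSpec, Category.assoc, hkA, ← hcomp, IsOpenImmersion.lift_fac_assoc, hh']

/-- The universal property. -/
theorem existsUnique_lift {Z : Scheme.{u}} (hZ : Pi1.IsNormalScheme Z) (g : Z ⟶ X)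
    (hdom : ∀ w : Z, IsMax' w → g w = genericPoint X) :
    ∃! h : Z ⟶ Curv2.normalization X, h ≫ Curv2.normalizationι X = g := by
  have huniq : ∀ (T : Scheme.{u}) (i : T ⟶ Z) [IsOpenImmersion i]
      (h₁ h₂ : T ⟶ Curv2.normalization X), h₁ ≫ Curv2.normalizationι X = i ≫ g →
      h₂ ≫ Curv2.normalizationι X = i ≫ g → h₁ = h₂ := by
    intro T i _ h₁ h₂ e₁ e₂
    have hc : ∀ t : T, ∃ U : X.Opens, IsAffineOpen U ∧ (i ≫ g) t ∈ U := fun t => by
      obtain ⟨U, hU, hxU, -⟩ := exists_isAffineOpen_mem_and_subset (x := (i ≫ g) t) (U := ⊤) trivial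
      exact ⟨U, hU, hxU⟩
    choose U hU hxU using hc
    refine Scheme.Cover.hom_ext (T.openCoverOfIsOpenCover (fun t => (i ≫ g) ⁻¹ᵁ U t)
      (IsOpenCover.mk (eq_top_iff.mpr fun t _ => Opens.mem_iSup.mpr ⟨t, hxU t⟩))) _ _ fun t => ?_
    change ((i ≫ g) ⁻¹ᵁ U t).ι ≫ h₁ = ((i ≫ g) ⁻¹ᵁ U t).ι ≫ h₂
    haveI : Nonempty (U t) := ⟨⟨_, hxU t⟩⟩
    refine (existsUnique_lift_local (k := ((i ≫ g) ⁻¹ᵁ U t).ι ≫ i ≫ g)
      (isNormalScheme_of_openImmersion (((i ≫ g) ⁻¹ᵁ U t).ι ≫ i) hZ) (fun w hw => ?_) (hU t) ?_).unique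
      (by rw [Category.assoc, e₁]) (by rw [Category.assoc, e₂])
    · exact hdom _ (isMax'_of_openImmersion (((i ≫ g) ⁻¹ᵁ U t).ι ≫ i) hw)
    · rintro _ ⟨w, rfl⟩
      exact w.2
  have hc : ∀ z : Z, ∃ U : X.Opens, IsAffineOpen U ∧ g z ∈ U := fun z => by
    obtain ⟨U, hU, hxU, -⟩ := exists_isAffineOpen_mem_and_subset (x := g z) (U := ⊤) trivial
    exact ⟨U, hU, hxU⟩
  choose U hU hxU using hc
  let 𝒰 := Z.openCoverOfIsOpenCover (fun z => g ⁻¹ᵁ U z)
    (IsOpenCover.mk (eq_top_iff.mpr fun z _ => Opens.mem_iSup.mpr ⟨z, hxU z⟩))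
  have hex : ∀ z : Z, ∃ h : (g ⁻¹ᵁ U z).toScheme ⟶ Curv2.normalization X,
      h ≫ Curv2.normalizationι X = (g ⁻¹ᵁ U z).ι ≫ g := fun z => by
    haveI : Nonempty (U z) := ⟨⟨_, hxU z⟩⟩
    refine (existsUnique_lift_local (k := (g ⁻¹ᵁ U z).ι ≫ g)
      (isNormalScheme_of_openImmersion (g ⁻¹ᵁ U z).ι hZ)
      (fun w hw => hdom _ (isMax'_of_openImmersion (g ⁻¹ᵁ U z).ι hw)) (hU z) ?_).exists
    rintro _ ⟨w, rfl⟩
    exact w.2
  choose h hh using hex
  refine ⟨𝒰.glueMorphisms h fun a b => ?_, ?_, fun h' hh' => ?_⟩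
  · refine huniq _ (Limits.pullback.fst _ _ ≫ (g ⁻¹ᵁ U a).ι) _ _ ?_ ?_
    · exact ((Category.assoc _ _ _).trans (congrArg (_ ≫ ·) (hh a))).trans (Category.assoc _ _ _).symm
    · refine (Category.assoc _ _ _).trans ((congrArg (_ ≫ ·) (hh b)).trans ?_)
      exact (Category.assoc _ _ _).symm.trans (congrArg (· ≫ g) Limits.pullback.condition.symm)
  · refine Scheme.Cover.hom_ext 𝒰 _ _ fun z => ?_
    rw [Scheme.Cover.ι_glueMorphisms_assoc]
    exact hh z
  · refine Scheme.Cover.hom_ext 𝒰 _ _ fun z => ?_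
    rw [Scheme.Cover.ι_glueMorphisms]
    exact huniq _ (g ⁻¹ᵁ U z).ι _ _ ((Category.assoc _ _ _).trans (congrArg (𝒰.f z ≫ ·) hh')) (hh z)

end

end Groth.Agent.Norm57
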