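import Groth.Agent.Norm57.GenPoints
import Mathlib.AlgebraicGeometry.Morphisms.QuasiFinite

/-!
Quasi-finiteness at the points over a maximal point of the base.
-/

set_option autoImplicit false
set_option backward.isDefEq.respectTransparency.types false
universe u

open CategoryTheory AlgebraicGeometry TopologicalSpace

namespace Groth.Agent.Norm57

variable {X Y : Scheme.{u}}

theorem topologicalKrullDim_le_zero_of_specializes {T : Type u} [TopologicalSpace T] [QuasiSober T]
    (h : ∀ z w : T, z ⤳ w → w = z) : topologicalKrullDim T ≤ 0 := by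
  refine iSup_le fun l => ?_
  by_contra hl
  have h1 : 1 ≤ l.length := by
    by_contra h'
    exact hl (by exact_mod_cast (show l.length ≤ 0 by omega))
  have hcl : ∀ Z : IrreducibleCloseds T, (Z : Set T) = {Z.isIrreducible.genericPoint} := fun Z => by
    refine Set.eq_singleton_iff_unique_mem.mpr ⟨?_, fun w hw => ?_⟩
    · exact (Z.isIrreducible.closure_genericPoint Z.isClosed).le (subset_closure rfl)
    · exact h _ _ (specializes_iff_mem_closure.mpr
        ((Z.isIrreducible.closure_genericPoint Z.isClosed).ge hw))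
  have hlt : l (Fin.castSucc ⟨0, h1⟩) < l (Fin.succ ⟨0, h1⟩) := l.step _
  have key : ∀ A B : IrreducibleCloseds T, A ≤ B → A = B := fun A B hAB => by
    have hle : (A : Set T) ⊆ (B : Set T) := hAB
    refine IrreducibleCloseds.ext ?_
    obtain ⟨a, ha⟩ : ∃ a, (A : Set T) = {a} := ⟨_, hcl A⟩
    obtain ⟨b, hb⟩ : ∃ b, (B : Set T) = {b} := ⟨_, hcl B⟩
    rw [ha, hb, Set.singleton_subset_iff, Set.mem_singleton_iff] at hle
    rw [ha, hb, hle]
  exact hlt.ne (key _ _ hlt.le)

theorem isOpen_singleton_fiber (f : X ⟶ Y) [LocallyOfFiniteType f] (η : Y)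
    (h : ∀ z w : X, f z = η → f w = η → z ⤳ w → w = z) (a : f.fiber η) : IsOpen ({a} : Set (f.fiber η)) := by
  have hl : LocallyOfFiniteType (f.fiberToSpecResidueField η) :=
    MorphismProperty.pullback_snd _ _ inferInstance
  have : IsLocallyNoetherian (f.fiber η) := LocallyOfFiniteType.isLocallyNoetherian (f.fiberToSpecResidueField η)
  have hd : topologicalKrullDim (f.fiber η) ≤ 0 := by
    refine topologicalKrullDim_le_zero_of_specializes fun z w hzw => ?_
    refine (f.fiberι η).isEmbedding.injective (h _ _ ?_ ?_ (hzw.map (f.fiberι η).continuous))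
    · exact (f.fiberHomeo η z).2
    · exact (f.fiberHomeo η w).2
  have := IsLocallyArtinian.of_topologicalKrullDim_le_zero hd
  exact isOpen_discrete _

theorem quasiFiniteAt_iff_isMax' (f : X ⟶ Y) [LocallyOfFiniteType f] {η : Y} (hη : IsMax' η) :
    ((∀ x : X, f x = η → IsMax' x) ↔ (∀ x : X, f x = η → f.QuasiFiniteAt x)) ∧
    ((∀ x : X, f x = η → IsMax' x) ↔ (∀ x : X, f x = η → IsMax' x → f.QuasiFiniteAt x)) := by
  have h12 : (∀ x : X, f x = η → IsMax' x) → ∀ x : X, f x = η → f.QuasiFiniteAt x := fun h x hx => by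
    subst hx
    exact Scheme.Hom.quasiFiniteAt_iff_isOpen_singleton_asFiber.mpr
      (isOpen_singleton_fiber f _ (fun z w _ hw hzw => (h w hw z hzw).symm) _)
  have h31 : (∀ x : X, f x = η → IsMax' x → f.QuasiFiniteAt x) → ∀ x : X, f x = η → IsMax' x := by
    intro h x hx
    obtain ⟨y, hy, hyx⟩ := exists_isMax'_specializes x
    have hfy : f y = η := hη _ (hx ▸ hyx.map f.continuous)
    have hcl := (h y hfy hy).isClopen_singleton_asFiber
    let x' : f.fiber (f y) := (f.fiberHomeo (f y)).symm ⟨x, hx.trans hfy.symm⟩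
    have hs : f.asFiber y ⤳ x' := by
      rw [← (f.fiberι (f y)).isEmbedding.isInducing.specializes_iff, f.fiberι_asFiber,
        f.fiberι_fiberHomeo_symm]
      exact hyx
    have he : x' = f.asFiber y := hs.mem_closed hcl.1 rfl
    have := congrArg (f.fiberι (f y)) he
    rw [f.fiberι_asFiber, f.fiberι_fiberHomeo_symm] at this
    have hxy : x = y := this
    exact hxy.symm ▸ hy
  exact ⟨⟨h12, fun h => h31 fun x hx _ => h x hx⟩, ⟨fun h x hx _ => h12 h x hx, h31⟩⟩

end Groth.Agent.Norm57
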