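import Groth.Agent.VarNorm.Chart
import Groth.Agent.VarNorm.Branches
import Groth.Agent.UH57.Basic
import Groth.Prelude.Def_CAlg2

/-! The normalization of a geometrically unibranch integral scheme is a universal homeomorphism. -/

set_option autoImplicit false
set_option backward.isDefEq.respectTransparency.types false
set_option linter.style.haveILetI false
universe u
open CategoryTheory AlgebraicGeometry

namespace Groth.Agent.Norm57

theorem ri_of_isGeomUnibranch {A K : Type u} [CommRing A] [IsDomain A] [Field K] [Algebra A K]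
    [IsFractionRing A K]
    (h : ∀ (p : Ideal A) [p.IsPrime], ∃ (R : Type u) (_ : CommRing R) (_ : IsLocalRing R)
      (_ : _root_.IsReduced R) (_ : Algebra A R) (_ : IsLocalization.AtPrime R p) (_ : Algebra R K)
      (_ : IsScalarTower A R K) (_ : IsFractionRing R K), CAlg2.IsGeomUnibranch R) :
    UH57.RI A (integralClosure A K) := by
  classical
  let C := integralClosure A K
  have key : ∀ (p : Ideal A) [p.IsPrime], ∃ (D : Type u) (_ : CommRing D) (M : Ideal D) (_ : M.IsPrime)
      (j : C →+* D), (∀ q : Ideal C, q.IsPrime → q.comap (algebraMap A C) = p → q = M.comap j) ∧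
      ∀ b : C, ∃ a s : A, s ∉ p ∧ (j (algebraMap A C s * b - algebraMap A C a) ∈ M ∨
        ∃ ℓ n : ℕ, ℓ.Prime ∧ (ℓ : D) ∈ M ∧
          j (algebraMap A C s * b ^ ℓ ^ n - algebraMap A C a) ∈ M) := by
    intro p _
    obtain ⟨R, _, _, _, _, _, _, _, _, ⟨⟨-, hloc⟩, hres⟩⟩ := h p
    obtain ⟨ψ, hψ⟩ := VarNorm.exists_normRedEquiv (A := R) K
    let D := integralClosure R K
    haveI : IsLocalRing D := ψ.isLocalRing
    let M := IsLocalRing.maximalIdeal D
    let j : C →+* D :=
      { toFun := fun x => ⟨x.1, x.2.tower_top⟩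
        map_one' := rfl
        map_mul' := fun _ _ => rfl
        map_zero' := rfl
        map_add' := fun _ _ => rfl }
    have hjA : ∀ a : A, j (algebraMap A C a) = algebraMap R D (algebraMap A R a) := fun a =>
      Subtype.ext (IsScalarTower.algebraMap_apply A R K a)
    haveI : Algebra.IsIntegral R D := inferInstance
    have hMR : M.comap (algebraMap R D) = IsLocalRing.maximalIdeal R := by
      haveI : (IsLocalRing.maximalIdeal D).IsMaximal := IsLocalRing.maximalIdeal.isMaximal D
      exact IsLocalRing.eq_maximalIdeal (Ideal.isMaximal_comap_of_isIntegral_of_isMaximal (R := R) M)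
    have hMp : (M.comap j).comap (algebraMap A C) = p := by
      ext a
      rw [Ideal.mem_comap, Ideal.mem_comap, hjA, ← Ideal.mem_comap (f := algebraMap R D), hMR,
        ← IsLocalization.AtPrime.to_map_mem_maximal_iff R p a]
    refine ⟨D, inferInstance, M, inferInstance, j, fun q hq hqp => ?_, fun b => ?_⟩
    · have hle : q ≤ M.comap j := by
        intro c hc
        by_contra hcM
        obtain ⟨d, hd⟩ := (IsLocalRing.notMem_maximalIdeal.mp hcM).exists_right_inv
        obtain ⟨⟨s, hs⟩, hsd⟩ := IsIntegral.exists_multiple_integral_of_isLocalization p.primeCompl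
          (d.1 : K) d.2
        have hcd : c.1 * d.1 = 1 := congrArg Subtype.val hd
        have : algebraMap A C s = c * ⟨(⟨s, hs⟩ : p.primeCompl) • d.1, hsd⟩ := Subtype.ext (by
          change algebraMap A K s = c.1 * (s • d.1)
          rw [Algebra.smul_def, mul_left_comm, hcd, mul_one])
        exact hs (hqp.le (show algebraMap A C s ∈ q from this ▸ q.mul_mem_right _ hc))
      by_contra hne
      obtain ⟨x, hx, hxq⟩ := SetLike.exists_of_lt (lt_of_le_of_ne hle hne)
      have := Ideal.comap_lt_comap_of_integral_mem_sdiff (R := A) hle ⟨hx, hxq⟩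
        (Algebra.IsIntegral.isIntegral x)
      rw [hqp, hMp] at this
      exact lt_irrefl _ this
    · let m' : Ideal (CAlg2.normRed R) := M.comap ψ
      haveI : m'.IsMaximal := Ideal.comap_isMaximal_of_surjective (ψ : CAlg2.normRed R →+* D) ψ.surjective
      obtain ⟨n, r, hr⟩ := hres m' (Ideal.Quotient.mk m' (ψ.symm (j b)))
      rw [RingHom.comp_apply, RingHom.comp_apply, ← map_pow, Ideal.Quotient.eq] at hr
      have hr' : algebraMap R D r - j b ^ ringExpChar (CAlg2.normRed R ⧸ m') ^ n ∈ M := by
        have := Ideal.mem_comap.mp hr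
        rwa [map_sub, map_pow, hψ, RingEquiv.apply_symm_apply] at this
      obtain ⟨a, ⟨s, hs⟩, rfl⟩ := IsLocalization.exists_mk'_eq p.primeCompl r
      set q := ringExpChar (CAlg2.normRed R ⧸ m') with hq
      have hmem : j (algebraMap A C s * b ^ q ^ n - algebraMap A C a) ∈ M := by
        have := M.mul_mem_left (-(algebraMap R D (algebraMap A R s))) hr'
        convert! this using 1
        rw [map_sub, map_mul, map_pow, hjA, hjA, mul_sub, neg_mul, neg_mul, ← map_mul, mul_comm (algebraMap A R s),
          IsLocalization.mk'_spec]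
        ring
      refine ⟨a, s, hs, ?_⟩
      have hE : ExpChar (CAlg2.normRed R ⧸ m') q := inferInstance
      letI : Field (CAlg2.normRed R ⧸ m') := Ideal.Quotient.field m'
      clear_value q
      cases hE with
      | zero => left; rwa [one_pow, pow_one] at hmem
      | prime hqp =>
        refine .inr ⟨_, n, hqp, ?_, hmem⟩
        have h0 : ((q : ℕ) : CAlg2.normRed R ⧸ m') = 0 := CharP.cast_eq_zero _ _
        rw [← map_natCast (Ideal.Quotient.mk m'), Ideal.Quotient.eq_zero_iff_mem] at h0
        have := Ideal.mem_comap.mp h0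
        rwa [map_natCast] at this
  refine ⟨fun q₁ q₂ e => PrimeSpectrum.ext ?_, fun Q hQ b => ?_⟩
  · obtain ⟨D, _, M, _, j, huniq, -⟩ := key (q₁.asIdeal.comap (algebraMap A C))
    rw [huniq q₁.asIdeal q₁.isPrime rfl,
      huniq q₂.asIdeal q₂.isPrime (congrArg PrimeSpectrum.asIdeal e).symm]
  · obtain ⟨D, _, M, _, j, huniq, hres⟩ := key (Q.comap (algebraMap A C))
    obtain ⟨a, s, hs, h'⟩ := hres b
    have hQM := huniq Q hQ rfl
    refine ⟨a, s, hs, ?_⟩
    rcases h' with h' | ⟨ℓ, n, hℓ, hℓM, h'⟩
    · exact .inl (hQM.ge h')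
    · exact .inr ⟨ℓ, n, hℓ, hQM.ge (show j (ℓ : C) ∈ M by rwa [map_natCast]), hQM.ge h'⟩

theorem isUnivHomeo_normalizationι (X : Scheme.{u}) [IsIntegral X]
    [QuasiCompact (X.fromSpecStalk (genericPoint X))] [QuasiSeparated (X.fromSpecStalk (genericPoint X))]
    (hX : ∀ x : X, CAlg2.IsGeomUnibranch (X.presheaf.stalk x)) :
    FlatMor.IsUnivHomeo (Curv2.normalizationι X) := by
  rw [UH57.isUnivHomeo_iff']
  have key : ∀ U : {U : X.Opens // IsAffineOpen U ∧ Nonempty U},
      UniversallyInjective (Curv2.normalizationι X ∣_ U.1) ∧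
        Surjective (Curv2.normalizationι X ∣_ U.1) := by
    rintro ⟨U, hU, hne⟩
    obtain ⟨g, hg, hrange, hcomp⟩ := VarNorm.exists_chart X U hU
    haveI := functionField_isFractionRing_of_isAffineOpen X U hU
    have hRI : UH57.RI Γ(X, U) (integralClosure Γ(X, U) X.functionField) := by
      refine ri_of_isGeomUnibranch fun p hp => ?_
      let x : X := hU.fromSpec ⟨p, hp⟩
      have hx : x ∈ U := hU.range_fromSpec.le ⟨_, rfl⟩
      letI := X.presheaf.algebra_section_stalk ⟨x, hx⟩
      haveI : IsLocalization.AtPrime (X.presheaf.stalk x) p := hU.isLocalization_stalk' ⟨p, hp⟩ hx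
      haveI : IsScalarTower Γ(X, U) (X.presheaf.stalk x) X.functionField :=
        IsScalarTower.of_algebraMap_eq fun a =>
          (TopCat.Presheaf.germ_stalkSpecializes_apply X.presheaf hx (genericPoint_specializes x) a).symm
      exact ⟨X.presheaf.stalk x, inferInstance, inferInstance, inferInstance, inferInstance,
        inferInstance, inferInstance, inferInstance, inferInstance, hX x⟩
    have hUH := UH57.isUnivHomeo_iff.mpr ⟨inferInstance, hRI, fun a ha => by
      have : a = 0 := IsFractionRing.injective Γ(X, U) X.functionField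
        ((congrArg Subtype.val (RingHom.mem_ker.mp ha)).trans (map_zero _).symm)
      rw [this]; exact zero_mem _⟩
    rw [UH57.isUnivHomeo_iff'] at hUH
    obtain ⟨-, h1, h2⟩ := hUH
    have hr : Set.range (Curv2.normalizationι X ⁻¹ᵁ U).ι = Set.range g := by
      rw [Scheme.Opens.range_ι, ← g.coe_opensRange, hrange]
    let e := IsOpenImmersion.isoOfRangeEq (Curv2.normalizationι X ⁻¹ᵁ U).ι g hr
    have he : Curv2.normalizationι X ∣_ U = e.hom ≫
        Spec.map (CommRingCat.ofHom (algebraMap Γ(X, U) (integralClosure Γ(X, U) X.functionField))) ≫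
          hU.isoSpec.inv := by
      rw [← cancel_mono U.ι, morphismRestrict_ι, Category.assoc, Category.assoc, hU.isoSpec_inv_ι,
        ← hcomp, ← Category.assoc, IsOpenImmersion.isoOfRangeEq_hom_fac]
    rw [he]
    exact ⟨(MorphismProperty.cancel_left_of_respectsIso @UniversallyInjective e.hom _).mpr
        ((MorphismProperty.cancel_right_of_respectsIso @UniversallyInjective _ hU.isoSpec.inv).mpr h1),
      (MorphismProperty.cancel_left_of_respectsIso @Surjective e.hom _).mpr
        ((MorphismProperty.cancel_right_of_respectsIso @Surjective _ hU.isoSpec.inv).mpr h2)⟩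
  have hcov : (⨆ U : {U : X.Opens // IsAffineOpen U ∧ Nonempty U}, U.1) = ⊤ :=
    eq_top_iff.mpr fun x _ => by
      obtain ⟨U, hU, hxU, -⟩ := exists_isAffineOpen_mem_and_subset (x := x) (U := ⊤) trivial
      exact TopologicalSpace.Opens.mem_iSup.mpr ⟨⟨U, hU, ⟨⟨x, hxU⟩⟩⟩, hxU⟩
  refine ⟨?_, IsZariskiLocalAtTarget.of_iSup_eq_top (P := @UniversallyInjective) _ hcov fun U => (key U).1,
    IsZariskiLocalAtTarget.of_iSup_eq_top (P := @Surjective) _ hcov fun U => (key U).2⟩
  exact (IsIntegralHom.iff_universallyClosed_and_isAffineHom.mp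
    (show IsIntegralHom (X.fromSpecStalk (genericPoint X)).fromNormalization from inferInstance)).1

end Groth.Agent.Norm57
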